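import Groth.Agent.Lib.EulerSeq.Frame
import Groth.Agent.Lib.Modules.AffineHom
import Groth.Agent.Lib.Modules.TensorGen
import Groth.Agent.Lib.ClSub.Basis
import Groth.Agent.Lib.Kaehler.Basic

/-!
# The second fundamental form of the tautological subbundle on a projective bundle
-/

set_option autoImplicit false
set_option linter.style.haveILetI false
universe u

open CategoryTheory CategoryTheory.Limits AlgebraicGeometry Opposite TopologicalSpace
open ZarCoh.FlatBC.PullbackSections OmegaSh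

namespace Groth.Agent.Lib.EulerSeq.Map

open Groth.Agent.Lib TensorMod TensorMod.Dual TensorMod.Gen TensorMod.Basis Groth.Agent.Lib.Cyc.PB
open Groth.Agent.Lib.Kaehler.Basic Groth.Agent.Lib.Modules.TensorSec

variable {X P : Scheme.{u}} {π : P ⟶ X} {E : X.Modules} {O1 : P.Modules}
  {q : (Scheme.Modules.pullback π).obj E ⟶ O1} {Ω' : P.Modules} (d : Der π Ω')

theorem tens_sum_left {M N : P.Modules} {W : P.Opens} {ι : Type*} (t : Finset ι) (m : ι → Γ(M, W))
    (x : Γ(N, W)) : tens (∑ k ∈ t, m k) x = ∑ k ∈ t, tens (m k) x :=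
  map_sum (AddMonoidHom.mk' (fun m => tens m x) fun a b => tens_add_left a b x) m t

theorem tens_sum_right {M N : P.Modules} {W : P.Opens} {ι : Type*} (t : Finset ι) (m : Γ(M, W))
    (x : ι → Γ(N, W)) : tens m (∑ k ∈ t, x k) = ∑ k ∈ t, tens m (x k) :=
  map_sum (AddMonoidHom.mk' (fun x => tens m x) fun a b => tens_add_right m a b) x t

/-- An affine frame of `E`. -/
structure Fr (E : X.Modules) where
  U : X.affineOpens
  n : ℕ
  e : Fin (n + 1) → Γ(E, U.1)
  he : IsBasis e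

variable (π) in
/-- The frame on the inverse image. -/
noncomputable abbrev Fr.pb (c : Fr E) (k : Fin (c.n + 1)) : Γ((Scheme.Modules.pullback π).obj E, π ⁻¹ᵁ c.U.1) :=
  pbRes π E le_rfl (c.e k)

variable (q) in
/-- The value of the second fundamental form on coordinates. -/
noncomputable def val (c : Fr E) {W : P.Opens} (hW : W ≤ π ⁻¹ᵁ c.U.1) (a : Fin (c.n + 1) → Γ(P, W)) :
    Γ(CohB1.tensorMod Ω' O1, W) :=
  ∑ k, tens (d.app W (a k)) (rs O1 hW (Univ.sec q c.e k))

theorem rs_val (c : Fr E) {W W' : P.Opens} (hW : W ≤ π ⁻¹ᵁ c.U.1) (h : W' ≤ W)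
    (a : Fin (c.n + 1) → Γ(P, W)) :
    rs _ h (val q d c hW a) = val q d c (h.trans hW) fun k => rf h (a k) := by
  simp only [val, Basis.rs_sum, rs_tens, rs_rs]
  refine Finset.sum_congr rfl fun k _ => congrArg (fun x => tens x _) ?_
  exact (der_app_map d h (a k)).symm

theorem val_add (c : Fr E) {W : P.Opens} (hW : W ≤ π ⁻¹ᵁ c.U.1) (a a' : Fin (c.n + 1) → Γ(P, W)) :
    val q d c hW (a + a') = val q d c hW a + val q d c hW a' := by
  simp only [val, Pi.add_apply, map_add, tens_add_left, Finset.sum_add_distrib]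

theorem val_smul (c : Fr E) {W : P.Opens} (hW : W ≤ π ⁻¹ᵁ c.U.1) (r : Γ(P, W))
    (a : Fin (c.n + 1) → Γ(P, W)) (hu : q.app W (comb (c.pb π) hW a) = 0) :
    val q d c hW (r • a) = r • val q d c hW a := by
  have h0 : ∑ k, a k • rs O1 hW (Univ.sec q c.e k) = 0 := by
    rw [← hu, app_comb]
    rfl
  simp only [val, Pi.smul_apply, smul_eq_mul, der_app_mul, tens_add_left, tens_smul_left,
    Finset.sum_add_distrib, Finset.smul_sum, add_eq_left]
  simp only [← tens_smul_right, ← tens_sum_right, h0, tens_zero_right]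

theorem exists_transition (c c' : Fr E) {W : P.Opens} (hW : W ≤ π ⁻¹ᵁ c.U.1) (hW' : W ≤ π ⁻¹ᵁ c'.U.1) :
    ∃ γ : Fin (c'.n + 1) → Fin (c.n + 1) → Γ(P, W), (∀ k l, d.app W (γ k l) = 0) ∧
      ∀ k, rs _ hW' (c'.pb π k) = comb (c.pb π) hW (γ k) := by
  have hWU : W ≤ π ⁻¹ᵁ (c.U.1 ⊓ c'.U.1) := fun x hx => ⟨hW hx, hW' hx⟩
  choose C hC using fun k => (c.he (c.U.1 ⊓ c'.U.1) inf_le_left).2 (rs E inf_le_right (c'.e k))
  refine ⟨fun k l => π.appLE _ W hWU (C k l), fun k l => der_app_appLE d _ _ _ _, fun k => ?_⟩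
  rw [Sect.rs_pbRes, ← Sect.pbRes_rs π E (inf_le_right : c.U.1 ⊓ c'.U.1 ≤ c'.U.1) hWU, ← hC]
  simp only [comb, map_sum]
  refine Finset.sum_congr rfl fun l _ => ?_
  rw [pbRes_smul, Sect.pbRes_rs, Sect.rs_pbRes]

theorem indep (hq : E.IsQuasicoherent) (c c' : Fr E) {W : P.Opens} (hW : W ≤ π ⁻¹ᵁ c.U.1)
    (hW' : W ≤ π ⁻¹ᵁ c'.U.1) (a : Fin (c.n + 1) → Γ(P, W)) (a' : Fin (c'.n + 1) → Γ(P, W))
    (h : comb (c.pb π) hW a = comb (c'.pb π) hW' a') : val q d c hW a = val q d c' hW' a' := by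
  obtain ⟨γ, hd0, hγ⟩ := exists_transition d c c' hW hW'
  have ha : a = fun l => ∑ k, a' k * γ k l := by
    refine ((Frame.isBasis_pbRes hq c.U.2 c.he) W hW).1 (h.trans ?_)
    simp only [comb, hγ, Finset.smul_sum, smul_smul, Finset.sum_smul]
    exact Finset.sum_comm
  have hσ : ∀ k, rs O1 hW' (Univ.sec q c'.e k) = ∑ l, γ k l • rs O1 hW (Univ.sec q c.e l) := fun k => by
    have h1 := congrArg (q.app W) (hγ k)
    rw [app_comb, ← HomGlue.rs_app] at h1
    exact h1
  subst ha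
  have hdm : ∀ k l, d.app W (a' k * γ k l) = γ k l • d.app W (a' k) := fun k l => by
    rw [der_app_mul, hd0, smul_zero, zero_add]
  simp only [val, map_sum, hσ, tens_sum_left, tens_sum_right, hdm, tens_smul_left, tens_smul_right]
  exact Finset.sum_comm

/-- The defining property of the value at a section. -/
def Spec (q : (Scheme.Modules.pullback π).obj E ⟶ O1) {V : P.Opens}
    (s : Γ((Scheme.Modules.pullback π).obj E, V)) (t : Γ(CohB1.tensorMod Ω' O1, V)) : Prop :=
  ∀ (c : Fr E) (W : P.Opens) (hWV : W ≤ V) (hW : W ≤ π ⁻¹ᵁ c.U.1) (a : Fin (c.n + 1) → Γ(P, W)),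
    comb (c.pb π) hW a = rs _ hWV s → rs _ hWV t = val q d c hW a

variable (hq : E.IsQuasicoherent) (fr : ∀ x : P, ∃ c : Fr E, π x ∈ c.U.1)

include hq fr in
theorem existsUnique_spec {V : P.Opens} (s : Γ((Scheme.Modules.pullback π).obj E, V)) :
    ∃! t, Spec d q s t := by
  choose c hc using fr
  let D : P → P.Opens := fun x => V ⊓ π ⁻¹ᵁ (c x).U.1
  have hD : V ≤ ⨆ x, D x := fun x hx => Opens.mem_iSup.2 ⟨x, hx, hc x⟩
  have hDV : ∀ x, D x ≤ V := fun x => inf_le_left
  choose a ha using fun x =>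
    ((Frame.isBasis_pbRes hq (c x).U.2 (c x).he) (D x) inf_le_right).2 (rs _ (hDV x) s)
  have hext : ∀ t t', (∀ x, rs (CohB1.tensorMod Ω' O1) (hDV x) t = rs _ (hDV x) t') → t = t' :=
    fun t t' h => HomGlue.sections_ext_cover D _ hD fun x => by
      have h1 := congrArg (rs (CohB1.tensorMod Ω' O1) (inf_le_right : V ⊓ D x ≤ D x)) (h x)
      rwa [rs_rs, rs_rs] at h1
  obtain ⟨t, ht, -⟩ := TopCat.Sheaf.existsUnique_gluing'
    (⟨(CohB1.tensorMod Ω' O1).presheaf, (CohB1.tensorMod Ω' O1).isSheaf⟩ : TopCat.Sheaf AddCommGrpCat.{u} P)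
    D V (fun x => homOfLE (hDV x)) hD (fun x => val q d (c x) inf_le_right (a x)) fun i j => by
      change rs _ (inf_le_left : D i ⊓ D j ≤ D i) _ = rs _ (inf_le_right : D i ⊓ D j ≤ D j) _
      rw [rs_val, rs_val]
      refine indep d hq _ _ _ _ _ _ ?_
      have h1 := congrArg (rs _ (inf_le_left : D i ⊓ D j ≤ D i)) (ha i)
      have h2 := congrArg (rs _ (inf_le_right : D i ⊓ D j ≤ D j)) (ha j)
      rw [rs_comb, rs_rs] at h1 h2
      exact h1.trans h2.symm
  have ht' : ∀ x, rs (CohB1.tensorMod Ω' O1) (hDV x) t = val q d (c x) inf_le_right (a x) := ht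
  refine ⟨t, fun c' W hWV hW a' h => ?_, fun t' ht'' => hext _ _ fun x =>
    (ht'' (c x) (D x) (hDV x) inf_le_right (a x) (ha x)).trans (ht' x).symm⟩
  refine HomGlue.sections_ext_cover D _ (hWV.trans hD) fun x => ?_
  rw [rs_rs, rs_val]
  have h3 := congrArg (rs (CohB1.tensorMod Ω' O1) (inf_le_right : W ⊓ D x ≤ D x)) (ht' x)
  rw [rs_rs, rs_val] at h3
  refine h3.trans (indep d hq _ _ _ _ _ _ ?_)
  have h1 := congrArg (rs _ (inf_le_right : W ⊓ D x ≤ D x)) (ha x)
  have h2 := congrArg (rs _ (inf_le_left : W ⊓ D x ≤ W)) h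
  rw [rs_comb, rs_rs] at h1 h2
  exact h1.trans h2.symm

include hq fr in
/-- The second fundamental form. -/
theorem exists_hom : ∃ Φ : kernel q ⟶ CohB1.tensorMod Ω' O1,
    ∀ (c : Fr E) (W : P.Opens) (hW : W ≤ π ⁻¹ᵁ c.U.1) (a : Fin (c.n + 1) → Γ(P, W)) (m : Γ(kernel q, W)),
      comb (c.pb π) hW a = (kernel.ι q).app W m → Φ.app W m = val q d c hW a := by
  choose t ht huniq using fun (V : P.Opens) (s : Γ((Scheme.Modules.pullback π).obj E, V)) =>
    existsUnique_spec (q := q) d hq fr s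
  have hadd : ∀ V s s', t V (s + s') = t V s + t V s' := fun V s s' => by
    refine (huniq V _ _ fun c W hWV hW a h => ?_).symm
    obtain ⟨a₁, ha₁⟩ := ((Frame.isBasis_pbRes hq c.U.2 c.he) W hW).2 (rs _ hWV s)
    obtain ⟨a₂, ha₂⟩ := ((Frame.isBasis_pbRes hq c.U.2 c.he) W hW).2 (rs _ hWV s')
    have : a = a₁ + a₂ := ((Frame.isBasis_pbRes hq c.U.2 c.he) W hW).1 (by
      rw [h, HomGlue.rs_add, ← ha₁, ← ha₂]
      simp only [comb, Pi.add_apply, add_smul, Finset.sum_add_distrib])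
    rw [this, HomGlue.rs_add, ht V s c W hWV hW a₁ ha₁, ht V s' c W hWV hW a₂ ha₂, val_add]
  have hsmul : ∀ V r s, q.app V s = 0 → t V (r • s) = r • t V s := fun V r s hs => by
    refine (huniq V _ _ fun c W hWV hW a h => ?_).symm
    obtain ⟨a₁, ha₁⟩ := ((Frame.isBasis_pbRes hq c.U.2 c.he) W hW).2 (rs _ hWV s)
    have hcs : comb (c.pb π) hW (rf hWV r • a₁) = rf hWV r • comb (c.pb π) hW a₁ := by
      simp only [comb, Pi.smul_apply, smul_eq_mul, mul_smul, Finset.smul_sum]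
    have : a = rf hWV r • a₁ := ((Frame.isBasis_pbRes hq c.U.2 c.he) W hW).1 (by
      rw [h, rs_smul, hcs, ha₁])
    rw [this, rs_smul, ht V s c W hWV hW a₁ ha₁, val_smul]
    rw [ha₁, ← HomGlue.rs_app, hs]
    exact map_zero _
  have hker : ∀ (V : P.Opens) (m : Γ(kernel q, V)), q.app V ((kernel.ι q).app V m) = 0 := fun V m =>
    ClSub.Sections.app_kernel_ι_app q V m
  obtain ⟨Φ, hΦ⟩ := Modules.AffineHom.exists_hom_of_affine (M := kernel q) (N := CohB1.tensorMod Ω' O1)
    (fun W => { toFun := fun m => t W.1 ((kernel.ι q).app W.1 m)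
                map_add' := fun m m' => by rw [map_add, hadd]
                map_smul' := fun r m => by
                  rw [Scheme.Modules.Hom.app_smul, hsmul _ _ _ (hker _ _)]
                  rfl })
    (fun W W' h m => by
      refine (huniq _ _ _ fun c W'' hWV hW a ha => ?_)
      rw [rs_rs]
      refine ht W.1 _ c W'' _ hW a ?_
      rw [ha, ← HomGlue.rs_app, rs_rs])
  refine ⟨Φ, fun c W hW a m hm => ?_⟩
  refine section_ext _ _ _ fun x hx => ?_
  obtain ⟨W', hW', hxW'⟩ := Modules.AffineHom.exists_affine hx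
  refine ⟨W'.1, hW', hxW', ?_⟩
  rw [HomGlue.rs_app, rs_val]
  refine (hΦ W' _).trans ?_
  have h1 := ht W'.1 ((kernel.ι q).app W'.1 (rs (kernel q) hW' m)) c W'.1 le_rfl (hW'.trans hW)
    (fun k => rf hW' (a k)) (by rw [← rs_comb _ hW hW', hm, rs_self, HomGlue.rs_app])
  rw [rs_self] at h1
  exact h1

/-- The form is bijective over a standard chart. -/
theorem bijective_app (hd : IsUniversal d) (hP : KRR.IsProjBundle π E O1 q) (hq : E.IsQuasicoherent)
    (Φ : kernel q ⟶ CohB1.tensorMod Ω' O1)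
    (hΦ : ∀ (c : Fr E) (W : P.Opens) (hW : W ≤ π ⁻¹ᵁ c.U.1) (a : Fin (c.n + 1) → Γ(P, W))
      (m : Γ(kernel q, W)), comb (c.pb π) hW a = (kernel.ι q).app W m → Φ.app W m = val q d c hW a)
    (c : Fr E) (l : Fin (c.n + 1)) (W : P.Opens) (hW : W ≤ Univ.locus q c.e l) :
    Function.Bijective (Φ.app W) := by
  have hWU : W ≤ π ⁻¹ᵁ c.U.1 := hW.trans (Univ.locus_le (q := q) c.e l)
  set g : Γ(O1, W) := rs O1 hWU (Univ.sec q c.e l) with hgdef
  have hg : IsGen O1 W g := by
    have := (Univ.isGen_locus (q := q) c.e l).res hW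
    rwa [rs_rs] at this
  let co : Fin (c.n + 1) → Γ(P, W) := fun k => rf hW (Univ.coef (q := q) c.e l k)
  have hco : ∀ k, rs O1 hWU (Univ.sec q c.e k) = co k • g := fun k => by
    have := congrArg (rs O1 hW) (Univ.coef_spec (q := q) c.e l k)
    rw [rs_smul, rs_rs, rs_rs] at this
    exact this.symm
  have hcl : co l = 1 := (hg W le_rfl).1 (by
    show co l • rs O1 le_rfl g = (1 : Γ(P, W)) • rs O1 le_rfl g
    rw [rs_self, ← hco, one_smul])
  let β : Fin c.n → Γ(Ω', W) := fun i => d.app W (co (l.succAbove i))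
  have hβ : ∀ y : Γ(Ω', W), ∃! a' : Fin c.n → Γ(P, W), ∑ i, a' i • β i = y := by
    have hb := ((Frame.isBasis_dcoef c.e hP c.he l hd)) W hW
    have hcomb : ∀ a', comb (fun i : Fin c.n =>
        d.app (Univ.locus q c.e l) (Univ.coef (q := q) c.e l (l.succAbove i))) hW a' = ∑ i, a' i • β i :=
      fun a' => Finset.sum_congr rfl fun i _ => congrArg (a' i • ·) (der_app_map d hW _).symm
    intro y
    obtain ⟨a', ha'⟩ := hb.2 y
    exact ⟨a', (hcomb a').symm.trans ha', fun a'' h => hb.1 (((hcomb a'').trans h).trans ha'.symm)⟩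
  have hlin : ∀ a : Fin (c.n + 1) → Γ(P, W),
      q.app W (comb (c.pb π) hWU a) = (∑ k, a k * co k) • g := fun a => by
    rw [app_comb, Finset.sum_smul]
    refine Finset.sum_congr rfl fun k _ => ?_
    rw [mul_smul, ← hco]
    rfl
  have hval : ∀ a : Fin (c.n + 1) → Γ(P, W), ∑ k, a k * co k = 0 →
      val q d c hWU a = Modules.TensorGen.tg Ω' g (-∑ i, a (l.succAbove i) • β i) := fun a ha => by
    have h1 : ∑ k, co k • d.app W (a k) + ∑ k, a k • d.app W (co k) = 0 := by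
      rw [← Finset.sum_add_distrib]
      simp only [add_comm (co _ • _), ← der_app_mul]
      rw [← map_sum, ha, map_zero]
    rw [Fin.sum_univ_succAbove (fun k => a k • d.app W (co k)) l, hcl, der_app_one, smul_zero, zero_add] at h1
    rw [show (-∑ i, a (l.succAbove i) • β i) = ∑ k, co k • d.app W (a k) from neg_eq_of_add_eq_zero_left h1,
      map_sum]
    refine Finset.sum_congr rfl fun k _ => ?_
    rw [hco, tens_smul_right, map_smul, Modules.TensorGen.tg_apply, tens, Ample.GenLocus.pairM_id]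
  have hcoords : ∀ m : Γ(kernel q, W), ∃ a, comb (c.pb π) hWU a = (kernel.ι q).app W m ∧
      ∑ k, a k * co k = 0 := fun m => by
    obtain ⟨a, ha⟩ := ((Frame.isBasis_pbRes hq c.U.2 c.he) W hWU).2 ((kernel.ι q).app W m)
    refine ⟨a, ha, (hg W le_rfl).1 ?_⟩
    show (∑ k, a k * co k) • rs O1 le_rfl g = (0 : Γ(P, W)) • rs O1 le_rfl g
    rw [rs_self, ← hlin, ha, ClSub.Sections.app_kernel_ι_app, zero_smul]
  refine ⟨(injective_iff_map_eq_zero (Φ.app W).hom).2 fun m hm => ?_, fun y => ?_⟩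
  · obtain ⟨a, ha, ha0⟩ := hcoords m
    have h1 : Modules.TensorGen.tg Ω' g (-∑ i, a (l.succAbove i) • β i) = 0 :=
      (hval a ha0).symm.trans ((hΦ c W hWU a m ha).symm.trans hm)
    rw [map_eq_zero_iff _ (Modules.TensorGen.tg_injective hg), neg_eq_zero] at h1
    have h2 : (fun i => a (l.succAbove i)) = 0 :=
      (hβ 0).unique h1 (by simp)
    have h3 : a = 0 := by
      funext k
      rcases Fin.eq_self_or_eq_succAbove l k with rfl | ⟨i, rfl⟩
      · rw [Fin.sum_univ_succAbove _ k, hcl, mul_one] at ha0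
        simpa [fun i => congrFun h2 i] using ha0
      · exact congrFun h2 i
    refine ClSub.Sections.kernel_ι_app_injective q W ?_
    rw [← ha, h3, map_zero]
    simp [comb]
  · obtain ⟨z, rfl⟩ := Modules.TensorGen.tg_surjective hg y
    obtain ⟨a', ha', -⟩ := hβ (-z)
    let a : Fin (c.n + 1) → Γ(P, W) :=
      l.insertNth (-∑ i, a' i * co (l.succAbove i)) a'
    have ha0 : ∑ k, a k * co k = 0 := by
      rw [Fin.sum_univ_succAbove _ l, hcl]
      simp [a]
    obtain ⟨m, hm⟩ := ClSub.Sections.exists_kernel_ι_app_eq q W (comb (c.pb π) hWU a)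
      (by rw [hlin, ha0, zero_smul])
    refine ⟨m, (hΦ c W hWU a m hm.symm).trans ((hval a ha0).trans ?_)⟩
    congr 1
    rw [show ∑ i, a (l.succAbove i) • β i = ∑ i, a' i • β i by simp [a], ha', neg_neg]

include hq fr in
/-- The second fundamental form is an isomorphism. -/
theorem nonempty_iso (hd : IsUniversal d) (hP : KRR.IsProjBundle π E O1 q) :
    Nonempty (CohB1.tensorMod Ω' O1 ≅ kernel q) := by
  obtain ⟨Φ, hΦ⟩ := exists_hom (q := q) d hq fr
  have key : ∀ x : P, ∀ U : P.Opens, x ∈ U → ∃ V ≤ U, x ∈ V ∧ Function.Bijective (Φ.app V) := fun x U hx => by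
    obtain ⟨c, hc⟩ := fr x
    obtain ⟨l, hl⟩ := Univ.exists_mem_locus c.e hP c.he x hc
    exact ⟨U ⊓ Univ.locus q c.e l, inf_le_left, ⟨hx, hl⟩, bijective_app d hd hP hq Φ hΦ c l _ inf_le_right⟩
  haveI : Mono Φ := by
    rw [Modules.Stalk.mono_iff_stalk_injective]
    exact fun x => ClSub.Basis.stalk_injective_of_basis Φ x fun U hx => by
      obtain ⟨V, hV, hxV, h⟩ := key x U hx
      exact ⟨V, hV, hxV, h.1⟩
  haveI : Epi Φ := by
    rw [Modules.Stalk.epi_iff_stalk_surjective]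
    exact fun x => ClSub.Basis.stalk_surjective_of_basis Φ x fun U hx => by
      obtain ⟨V, hV, hxV, h⟩ := key x U hx
      exact ⟨V, hV, hxV, h.2⟩
  haveI := isIso_of_mono_of_epi Φ
  exact ⟨(asIso Φ).symm⟩

/-- Frames around every point of a projective bundle. -/
theorem exists_frame (hP : KRR.IsProjBundle π E O1 q) (hE : FlatMod.IsFinLocFree E) (x : P) :
    ∃ c : Fr E, π x ∈ c.U.1 := by
  obtain ⟨U₀, n, hx, ⟨i⟩⟩ := hE (π x)
  obtain ⟨e₀, he₀⟩ := exists_basis_of_iso i
  obtain ⟨U, hU, hxU, hUle⟩ := exists_isAffineOpen_mem_and_subset hx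
  cases n with
  | zero => exact absurd hxU (BlowPB.Chart.not_mem_of_frame_zero _ (he₀.res hUle) hP x)
  | succ n => exact ⟨⟨⟨U, hU⟩, n, _, he₀.res hUle⟩, hxU⟩

end Groth.Agent.Lib.EulerSeq.Map
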