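import Groth.Agent.Lib.BlowPB.Chart
import Groth.Agent.Lib.Conormal92.OmegaSect
import Groth.Agent.Lib.Kaehler.Finite
import Groth.Agent.Lib.QCoh.Pullback
import Groth.Agent.Lib.TensorMod.QCohInv
import Mathlib.RingTheory.Kaehler.Polynomial

/-!
# Frames of the differentials and of the inverse image on a standard chart of a projective bundle
-/

set_option autoImplicit false
set_option linter.style.haveILetI false
universe u

open CategoryTheory CategoryTheory.Limits AlgebraicGeometry Opposite TopologicalSpace TensorProduct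
open ZarCoh.FlatBC.PullbackSections OmegaSh

namespace Groth.Agent.Lib.EulerSeq.Frame

open Groth.Agent.Lib TensorMod TensorMod.Dual TensorMod.Gen TensorMod.Basis Groth.Agent.Lib.Cyc.PB

/-- Differentials of the coordinates of an algebra isomorphic to a polynomial algebra. -/
theorem exists_basis_kaehler {A B : Type u} [CommRing A] [CommRing B] [Algebra A B] {σ : Type*} [Finite σ]
    (α : MvPolynomial σ A ≃ₐ[A] B) :
    ∃ b : Module.Basis σ B (Ω[B⁄A]), ∀ i, b i = KaehlerDifferential.D A B (α (MvPolynomial.X i)) := by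
  classical
  cases nonempty_fintype σ
  set v : σ → Ω[B⁄A] := fun i => KaehlerDifferential.D A B (α (MvPolynomial.X i))
  let Dj : σ → Derivation A B B := fun j =>
    Derivation.mk' (α.toLinearMap.comp ((MvPolynomial.pderiv j).toLinearMap.comp α.symm.toLinearMap))
      fun x y => by
        show α (MvPolynomial.pderiv j (α.symm (x * y))) =
          x • α (MvPolynomial.pderiv j (α.symm y)) + y • α (MvPolynomial.pderiv j (α.symm x))
        rw [map_mul, Derivation.leibniz, map_add, smul_eq_mul, smul_eq_mul, map_mul, map_mul,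
          α.apply_symm_apply, α.apply_symm_apply]
        rfl
  have hli : LinearIndependent B v := by
    rw [Fintype.linearIndependent_iff]
    intro g hg j
    have h1 := congrArg (Dj j).liftKaehlerDifferential hg
    simp only [map_sum, map_smul, v, Derivation.liftKaehlerDifferential_comp_D, map_zero] at h1
    have h2 : ∀ i, Dj j (α (MvPolynomial.X i)) = if i = j then 1 else 0 := fun i => by
      show α (MvPolynomial.pderiv j (α.symm (α (MvPolynomial.X i)))) = _
      rw [α.symm_apply_apply, MvPolynomial.pderiv_X]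
      by_cases h : i = j <;> simp [h, Pi.single_apply, eq_comm]
    simpa [h2] using h1
  refine ⟨Module.Basis.mk hli ?_, fun i => Module.Basis.mk_apply _ _ i⟩
  rw [← KaehlerDifferential.span_range_derivation, Submodule.span_le]
  rintro _ ⟨x, rfl⟩
  obtain ⟨p, rfl⟩ := α.surjective x
  induction p using MvPolynomial.induction_on with
  | C a =>
    rw [show α (MvPolynomial.C a) = algebraMap A B a from α.commutes a, Derivation.map_algebraMap]
    exact zero_mem _
  | add p q hp hq =>
    rw [map_add, map_add]
    exact add_mem hp hq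
  | mul_X p i hp =>
    rw [map_mul, Derivation.leibniz]
    exact add_mem (Submodule.smul_mem _ _ (Submodule.subset_span ⟨i, rfl⟩)) (Submodule.smul_mem _ _ hp)

variable {X P : Scheme.{u}} {π : P ⟶ X} {E : X.Modules} {O1 : P.Modules}
  {q : (Scheme.Modules.pullback π).obj E ⟶ O1}

/-- Pulled back frames are frames. -/
theorem isBasis_pbRes (hq : E.IsQuasicoherent) {U : X.Opens} (hU : IsAffineOpen U) {n : ℕ}
    {e : Fin n → Γ(E, U)} (he : IsBasis e) :
    IsBasis fun k => pbRes π E (le_refl (π ⁻¹ᵁ U)) (e k) := by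
  classical
  haveI := hq
  haveI : ((Scheme.Modules.pullback π).obj E).IsQuasicoherent := QCoh.Pullback.isQCoh_pullback π E
  refine isBasis_of_forall_exists fun x hx => ?_
  obtain ⟨W, hW, hxW, hWle⟩ := exists_isAffineOpen_mem_and_subset hx
  refine ⟨W, hWle, hxW, ?_⟩
  letI : Algebra Γ(X, U) Γ(P, W) := (π.appLE U W hWle).hom.toAlgebra
  let i : (Fin n → Γ(X, U)) ≃ₗ[Γ(X, U)] Γ(E, U) :=
    LinearEquiv.ofBijective
      { toFun := comb e le_rfl
        map_add' := fun a a' => by simp only [comb, Pi.add_apply, add_smul, Finset.sum_add_distrib]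
        map_smul' := fun r a => by
          simp only [comb, Pi.smul_apply, smul_eq_mul, RingHom.id_apply, Finset.smul_sum, smul_smul] }
      (he U le_rfl)
  let b₀ : Module.Basis (Fin n) Γ(X, U) Γ(E, U) := Module.Basis.ofEquivFun i.symm
  have hb₀ : ∀ k, b₀ k = e k := fun k => by
    rw [Module.Basis.coe_ofEquivFun, LinearEquiv.symm_symm]
    show comb e le_rfl (Pi.single k 1) = e k
    rw [comb, Finset.sum_eq_single k (fun l _ hl => by rw [Pi.single_eq_of_ne hl, zero_smul]) (by simp),
      Pi.single_eq_same, one_smul, rs_self]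
  let b : Module.Basis (Fin n) Γ(P, W) Γ((Scheme.Modules.pullback π).obj E, W) :=
    (Algebra.TensorProduct.basis Γ(P, W) b₀).map
      (LinearEquiv.ofBijective (pbTensor π E hWle) (bijective_pbTensor π E hU hW hWle))
  have hb : (fun k => rs ((Scheme.Modules.pullback π).obj E) hWle (pbRes π E (le_refl (π ⁻¹ᵁ U)) (e k))) =
      fun k => b k := funext fun k => by
    rw [Sect.rs_pbRes, Module.Basis.map_apply, LinearEquiv.ofBijective_apply,
      Algebra.TensorProduct.basis_apply, pbTensor_tmul, one_smul, hb₀]
  rw [hb]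
  exact BlowPB.Frame.isBasis hW b

variable {U : X.affineOpens} {n : ℕ} (e : Fin (n + 1) → Γ(E, U.1))

/-- A standard chart is an affine space over the base. -/
theorem locus_affine (hP : KRR.IsProjBundle π E O1 q) (he : IsBasis e) (l : Fin (n + 1)) :
    IsAffineOpen (Univ.locus q e l) ∧ Function.Bijective (Univ.psi (q := q) e l) := by
  set V := Univ.locus q e l with hV
  haveI := Univ.isOpenImmersion_chart U.2 e hP he l
  let h' : Univ.Std U.1 l ⟶ V.toScheme := IsOpenImmersion.lift V.ι (Univ.chart U.2 e hP he l) (by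
    rw [Scheme.Opens.range_ι]
    exact (Univ.range_chart U.2 e hP he l).le)
  have hh : h' ≫ V.ι = Univ.chart U.2 e hP he l := IsOpenImmersion.lift_fac _ _ _
  haveI : IsIso (Univ.coordMap (q := q) e l) := ⟨h', by
    rw [← cancel_mono V.ι, Category.assoc, hh, Univ.coordMap_chart, Category.id_comp],
    Univ.lift_comp_coordMap U.2 e hP he l h' hh⟩
  haveI : IsIso (Univ.coordMap (q := q) e l).appTop :=
    inferInstanceAs (IsIso (Scheme.Γ.map (Univ.coordMap (q := q) e l).op))
  refine ⟨IsAffine.of_isIso (Univ.coordMap (q := q) e l), ?_⟩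
  have h1 : (fun p => V.topIso.inv (Univ.psi (q := q) e l p)) =
      fun p => (Univ.coordMap (q := q) e l).appTop (Univ.fn l p) :=
    funext fun p => (Univ.coordMap_appLE e l p).symm
  refine (Function.Bijective.of_comp_iff' (ConcreteCategory.bijective_of_isIso V.topIso.inv) _).1 ?_
  show Function.Bijective fun p => V.topIso.inv (Univ.psi (q := q) e l p)
  rw [h1]
  exact (ConcreteCategory.bijective_of_isIso (Univ.coordMap (q := q) e l).appTop).comp
    (ConcreteCategory.bijective_of_isIso
      (Scheme.ΓSpecIso (CommRingCat.of (MvPolynomial (Var l) Γ(X, U.1)))).inv)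

/-- The differentials of the coordinates form a frame on a standard chart. -/
theorem isBasis_dcoef (hP : KRR.IsProjBundle π E O1 q) (he : IsBasis e) (l : Fin (n + 1))
    {Ω' : P.Modules} {d : Der π Ω'} (hd : IsUniversal d) :
    IsBasis fun i : Fin n => d.app (Univ.locus q e l) (Univ.coef (q := q) e l (l.succAbove i)) := by
  haveI := Kaehler.Finite.isQuasicoherent hd
  obtain ⟨hV, hbij⟩ := locus_affine e hP he l
  obtain ⟨K, hK⟩ := Conormal92.OmegaSect.exists_equiv π hV U.2 (Univ.locus_le (q := q) e l) hd
  letI : Algebra Γ(X, U.1) Γ(P, Univ.locus q e l) :=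
    (π.appLE U.1 (Univ.locus q e l) (Univ.locus_le (q := q) e l)).hom.toAlgebra
  let α₀ : MvPolynomial (Var l) Γ(X, U.1) ≃ₐ[Γ(X, U.1)] Γ(P, Univ.locus q e l) :=
    AlgEquiv.ofRingEquiv (f := RingEquiv.ofBijective (Univ.psi (q := q) e l) hbij) fun a => Univ.psi_C e l a
  obtain ⟨b, hb⟩ := exists_basis_kaehler α₀
  let K' : Γ(Ω', Univ.locus q e l) ≃ₗ[Γ(P, Univ.locus q e l)] Ω[Γ(P, Univ.locus q e l)⁄Γ(X, U.1)] := K
  let b' : Module.Basis (Fin n) Γ(P, Univ.locus q e l) Γ(Ω', Univ.locus q e l) :=
    (b.reindex (finSuccAboveEquiv l).symm).map K'.symm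
  have : (fun i : Fin n => d.app (Univ.locus q e l) (Univ.coef (q := q) e l (l.succAbove i))) =
      fun i => b' i := funext fun i => by
    rw [Module.Basis.map_apply, Module.Basis.reindex_apply, Equiv.symm_symm, hb, LinearEquiv.eq_symm_apply]
    refine (hK _).trans ?_
    have : α₀ (MvPolynomial.X (finSuccAboveEquiv l i)) = Univ.coef (q := q) e l (l.succAbove i) := by
      show Univ.psi (q := q) e l _ = _
      rw [Univ.psi, MvPolynomial.eval₂Hom_X']
      rfl
    rw [this]
    rfl
  rw [this]
  exact BlowPB.Frame.isBasis hV b'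

end Groth.Agent.Lib.EulerSeq.Frame
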